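import Groth.Agent.Lib.Lead.LinLES.Basic
import Groth.Agent.Lib.Helper12.Dev2

/-! # Dimension estimates from the long exact cohomology sequence -/

set_option autoImplicit false
universe u
open CategoryTheory CategoryTheory.Limits AlgebraicGeometry Opposite Abelian TopologicalSpace

namespace Groth.Agent.Lib.Helper2.CohEuler

open Groth.Agent.Lib.Lead.LinLES Groth.Agent.Lib.Helper12.H12Dev

section LinAlg
variable {k A B C : Type*} [Field k] [AddCommGroup A] [Module k A] [AddCommGroup B] [Module k B]
  [AddCommGroup C] [Module k C]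

theorem finrank_le_add_of_exact [Module.Finite k A] [Module.Finite k B] [Module.Finite k C]
    (f : A →ₗ[k] B) (g : B →ₗ[k] C) (h : Function.Exact f g) :
    Module.finrank k B ≤ Module.finrank k A + Module.finrank k C := by
  have h1 := LinearMap.finrank_range_add_finrank_ker g
  have h2 : LinearMap.ker g = LinearMap.range f := LinearMap.exact_iff.mp h
  have h3 : Module.finrank k (LinearMap.range f) ≤ Module.finrank k A := LinearMap.finrank_range_le f
  have h4 : Module.finrank k (LinearMap.range g) ≤ Module.finrank k C := Submodule.finrank_le _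
  rw [h2] at h1
  omega

end LinAlg

section Exact
variable {D : Type*} [Category D] [Abelian D]

/-- replacing the second map of an exact pair by its lift to the kernel of the next map. -/
theorem exact_kernelLift {A B C E : D} (f : A ⟶ B) (g : B ⟶ C) (g' : C ⟶ E) (hfg : f ≫ g = 0)
    (hgg' : g ≫ g' = 0) (h : (ShortComplex.mk f g hfg).Exact) :
    (ShortComplex.mk f (kernel.lift g' g hgg') (by
      rw [← cancel_mono (kernel.ι g'), Category.assoc, kernel.lift_ι, hfg, zero_comp])).Exact := by
  let S₁ : ShortComplex D := ShortComplex.mk f (kernel.lift g' g hgg') (by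
      rw [← cancel_mono (kernel.ι g'), Category.assoc, kernel.lift_ι, hfg, zero_comp])
  let S₂ : ShortComplex D := ShortComplex.mk f g hfg
  let φ : S₁ ⟶ S₂ :=
    { τ₁ := 𝟙 _
      τ₂ := 𝟙 _
      τ₃ := kernel.ι g'
      comm₁₂ := by simp [S₁, S₂]
      comm₂₃ := by simp [S₁, S₂] }
  haveI : Epi φ.τ₁ := by dsimp [φ]; infer_instance
  haveI : IsIso φ.τ₂ := by dsimp [φ]; infer_instance
  haveI : Mono φ.τ₃ := by dsimp [φ]; infer_instance
  exact (ShortComplex.exact_iff_of_epi_of_isIso_of_mono φ).mpr h

/-- the short exact sequence `0 → ker g → B → ker g' → 0` attached to an exact pair `(g, g')`. -/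
theorem shortExact_kernel_lift {B C E : D} (g : B ⟶ C) (g' : C ⟶ E) (hgg' : g ≫ g' = 0)
    (h : (ShortComplex.mk g g' hgg').Exact) :
    (ShortComplex.mk (kernel.ι g) (kernel.lift g' g hgg') (by
      rw [← cancel_mono (kernel.ι g'), Category.assoc, kernel.lift_ι, kernel.condition,
        zero_comp])).ShortExact := by
  have hex := exact_kernelLift (kernel.ι g) g g' (kernel.condition g) hgg'
    (ShortComplex.exact_kernel g)
  haveI : Epi (kernel.lift g' g hgg') := (ShortComplex.exact_iff_epi_kernel_lift _).mp h
  exact ShortComplex.ShortExact.mk hex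

theorem shortExact_mono_lift {A B C E : D} (f : A ⟶ B) [Mono f] (g : B ⟶ C) (g' : C ⟶ E)
    (hfg : f ≫ g = 0) (hgg' : g ≫ g' = 0) (h : (ShortComplex.mk f g hfg).Exact)
    (h' : (ShortComplex.mk g g' hgg').Exact) :
    (ShortComplex.mk f (kernel.lift g' g hgg') (by
      rw [← cancel_mono (kernel.ι g'), Category.assoc, kernel.lift_ι, hfg, zero_comp])).ShortExact := by
  have hex := exact_kernelLift f g g' hfg hgg' h
  haveI : Epi (kernel.lift g' g hgg') := (ShortComplex.exact_iff_epi_kernel_lift _).mp h'
  exact ShortComplex.ShortExact.mk hex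

end Exact

end Groth.Agent.Lib.Helper2.CohEuler
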