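import Mathlib

/-! # Alternating sums of lengths along a long exact sequence -/

set_option autoImplicit false
universe u v

namespace Groth.Agent.Lib.Helper2.CohEuler

section One
variable {R : Type u} [Ring R] {M P : Type v} [AddCommGroup M] [Module R M] [AddCommGroup P]
  [Module R P]

/-- the length as a natural number -/
noncomputable abbrev ℓ (R : Type u) [Ring R] (M : Type v) [AddCommGroup M] [Module R M] : ℕ :=
  (Module.length R M).toNat

theorem ℓ_eq_ker_add_range [IsNoetherian R M] [IsArtinian R M] (g : M →ₗ[R] P) :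
    ℓ R M = ℓ R (LinearMap.ker g) + ℓ R (LinearMap.range g) := by
  have h := Module.length_eq_add_of_exact (LinearMap.ker g).subtype g.rangeRestrict
    (Submodule.subtype_injective _) g.surjective_rangeRestrict (by
      rw [LinearMap.exact_iff, LinearMap.ker_rangeRestrict, Submodule.range_subtype])
  unfold ℓ
  rw [h, ENat.toNat_add Module.length_ne_top]
  have : IsNoetherian R (LinearMap.range g) := isNoetherian_of_surjective g.rangeRestrict
    (LinearMap.range_eq_top.mpr g.surjective_rangeRestrict)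
  have : IsArtinian R (LinearMap.range g) := isArtinian_of_surjective _ g.rangeRestrict
    g.surjective_rangeRestrict
  exact Module.length_ne_top

theorem ℓ_eq_of_injective [IsNoetherian R M] [IsArtinian R M] (g : M →ₗ[R] P)
    (hg : Function.Injective g) : ℓ R M = ℓ R (LinearMap.range g) := by
  unfold ℓ
  rw [(LinearEquiv.ofInjective g hg).length_eq]

theorem ℓ_eq_zero_of_subsingleton [Subsingleton M] : ℓ R M = 0 := by
  unfold ℓ
  rw [Module.length_eq_zero]
  rfl

end One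

section LES
variable {R : Type u} [Ring R] (A B C : ℕ → Type v)
  [∀ i, AddCommGroup (A i)] [∀ i, Module R (A i)] [∀ i, IsNoetherian R (A i)]
  [∀ i, IsArtinian R (A i)]
  [∀ i, AddCommGroup (B i)] [∀ i, Module R (B i)] [∀ i, IsNoetherian R (B i)]
  [∀ i, IsArtinian R (B i)]
  [∀ i, AddCommGroup (C i)] [∀ i, Module R (C i)] [∀ i, IsNoetherian R (C i)]
  [∀ i, IsArtinian R (C i)]
  (α : ∀ i, A i →ₗ[R] B i) (β : ∀ i, B i →ₗ[R] C i) (δ : ∀ i, C i →ₗ[R] A (i + 1))
  (h₂ : ∀ i, Function.Exact (α i) (β i)) (h₃ : ∀ i, Function.Exact (β i) (δ i))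
  (h₁ : ∀ i, Function.Exact (δ i) (α (i + 1))) (h₀ : Function.Injective (α 0))
include h₂ h₃ h₁ h₀

theorem euler_partial (N : ℕ) :
    (∑ i ∈ Finset.range (N + 1), (-1 : ℤ) ^ i * (ℓ R (B i) : ℤ)) =
      (∑ i ∈ Finset.range (N + 1), (-1 : ℤ) ^ i * (ℓ R (A i) : ℤ)) +
      (∑ i ∈ Finset.range (N + 1), (-1 : ℤ) ^ i * (ℓ R (C i) : ℤ)) -
        (-1 : ℤ) ^ N * (ℓ R (LinearMap.range (δ N)) : ℤ) := by
  have hB : ∀ i, ℓ R (B i) = ℓ R (LinearMap.range (α i)) + ℓ R (LinearMap.range (β i)) := by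
    intro i
    rw [ℓ_eq_ker_add_range (β i), LinearMap.exact_iff.mp (h₂ i)]
  have hC : ∀ i, ℓ R (C i) = ℓ R (LinearMap.range (β i)) + ℓ R (LinearMap.range (δ i)) := by
    intro i
    rw [ℓ_eq_ker_add_range (δ i), LinearMap.exact_iff.mp (h₃ i)]
  have hA : ∀ i, ℓ R (A (i + 1)) =
      ℓ R (LinearMap.range (δ i)) + ℓ R (LinearMap.range (α (i + 1))) := by
    intro i
    rw [ℓ_eq_ker_add_range (α (i + 1)), LinearMap.exact_iff.mp (h₁ i)]
  have hA0 : ℓ R (A 0) = ℓ R (LinearMap.range (α 0)) := ℓ_eq_of_injective (α 0) h₀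
  induction N with
  | zero =>
    simp only [zero_add, Finset.sum_range_one, pow_zero, one_mul]
    rw [hB 0, hC 0, hA0]
    push_cast
    ring
  | succ N ih =>
    rw [Finset.sum_range_succ, Finset.sum_range_succ (fun i => (-1 : ℤ) ^ i * (ℓ R (A i) : ℤ)),
      Finset.sum_range_succ (fun i => (-1 : ℤ) ^ i * (ℓ R (C i) : ℤ)), ih, hB (N + 1), hC (N + 1),
      hA N]
    push_cast
    ring

theorem euler_additive (N : ℕ) (hN : Subsingleton (A (N + 1))) :
    (∑ i ∈ Finset.range (N + 1), (-1 : ℤ) ^ i * (ℓ R (B i) : ℤ)) =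
      (∑ i ∈ Finset.range (N + 1), (-1 : ℤ) ^ i * (ℓ R (A i) : ℤ)) +
      (∑ i ∈ Finset.range (N + 1), (-1 : ℤ) ^ i * (ℓ R (C i) : ℤ)) := by
  rw [euler_partial A B C α β δ h₂ h₃ h₁ h₀ N]
  have : Subsingleton (LinearMap.range (δ N)) := by
    refine ⟨fun a b => Subtype.ext (Subsingleton.elim _ _)⟩
  rw [ℓ_eq_zero_of_subsingleton]
  simp

end LES

end Groth.Agent.Lib.Helper2.CohEuler
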