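import Groth.Agent.Lib.Helper2.CohEuler.Basic

/-! # Dimension estimates for the cohomology of an exact sequence of coherent modules -/

set_option autoImplicit false
universe u
open CategoryTheory CategoryTheory.Limits AlgebraicGeometry Opposite Abelian TopologicalSpace

namespace Groth.Agent.Lib.Helper2.CohEuler

open Groth.Agent.Lib.Lead.LinLES Groth.Agent.Lib.Helper12.H12Dev

variable (k : Type u) [Field k] {X : Scheme.{u}} [X.Over (Spec (CommRingCat.of k))]

/-- `h^q(M)`. -/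
noncomputable abbrev hh (M : X.Modules) (q : ℕ) : ℕ := Module.finrank k (Coh.HH X M q)

theorem injective_HHlin_zero (S : ShortComplex X.Modules) (hS : S.ShortExact) :
    Function.Injective (Canon.HHlin k S.f 0) := by
  have : Mono (abMap S.f) := (abS_shortExact S hS).mono_f
  exact Ext.postcomp_mk₀_injective_of_mono _ (abMap S.f)

section
variable (hfin : ∀ M : X.Modules, Coh.IsCoh M → ∀ q, Module.Finite k (Coh.HH X M q))
include hfin

theorem hh_mid_le (S : ShortComplex X.Modules) (hS : S.ShortExact) (h1 : Coh.IsCoh S.X₁)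
    (h2 : Coh.IsCoh S.X₂) (h3 : Coh.IsCoh S.X₃) (q : ℕ) :
    hh k S.X₂ q ≤ hh k S.X₁ q + hh k S.X₃ q := by
  have := hfin _ h1 q
  have := hfin _ h2 q
  have := hfin _ h3 q
  exact finrank_le_add_of_exact _ _ (exact₂ k S hS q)

theorem hh_left_succ_le (S : ShortComplex X.Modules) (hS : S.ShortExact) (h1 : Coh.IsCoh S.X₁)
    (h2 : Coh.IsCoh S.X₂) (h3 : Coh.IsCoh S.X₃) (q : ℕ) :
    hh k S.X₁ (q + 1) ≤ hh k S.X₃ q + hh k S.X₂ (q + 1) := by
  have := hfin _ h1 (q + 1)
  have := hfin _ h2 (q + 1)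
  have := hfin _ h3 q
  exact finrank_le_add_of_exact _ _ (exact₁ k S hS q)

theorem hh_left_zero_le (S : ShortComplex X.Modules) (hS : S.ShortExact)
    (h2 : Coh.IsCoh S.X₂) : hh k S.X₁ 0 ≤ hh k S.X₂ 0 := by
  have := hfin _ h2 0
  exact LinearMap.finrank_le_finrank_of_injective (injective_HHlin_zero k S hS)

end


section Seq
variable [IsLocallyNoetherian X] (hfin : ∀ M : X.Modules, Coh.IsCoh M → ∀ q, Module.Finite k (Coh.HH X M q))
  {C : ℕ → X.Modules} (hC : ∀ j, Coh.IsCoh (C j)) (d : ∀ j, C j ⟶ C (j + 1))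
  (hd : ∀ j, d j ≫ d (j + 1) = 0)
  (hex : ∀ j, (ShortComplex.mk (d j) (d (j + 1)) (hd j)).Exact)
include hfin hC hex

theorem hh_congr (a b : ℕ) (h : a = b) (q q' : ℕ) (hq : q = q') :
    hh k (C a) q = hh k (C b) q' := by
  subst h
  subst hq
  rfl

theorem hh_kernel_le (m : ℕ) : ∀ j, hh k (kernel (d j)) m ≤
    ∑ l ∈ Finset.range (m + 1), hh k (C (j + l)) (m - l) := by
  induction m with
  | zero =>
    intro j
    have hS := shortExact_kernel_lift (d j) (d (j + 1)) (hd j) (hex j)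
    have h := hh_left_zero_le k hfin _ hS (hC j)
    rw [Finset.sum_range_one]
    exact h
  | succ m ih =>
    intro j
    have hS := shortExact_kernel_lift (d j) (d (j + 1)) (hd j) (hex j)
    have h := hh_left_succ_le k hfin _ hS (isCoh_kernel (d j) (hC j) (hC (j + 1))) (hC j)
      (isCoh_kernel (d (j + 1)) (hC (j + 1)) (hC (j + 1 + 1))) m
    have h' := ih (j + 1)
    rw [Finset.sum_range_succ']
    have hsum : ∑ l ∈ Finset.range (m + 1), hh k (C (j + 1 + l)) (m - l) =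
        ∑ l ∈ Finset.range (m + 1), hh k (C (j + (l + 1))) (m + 1 - (l + 1)) := by
      refine Finset.sum_congr rfl (fun l _ => ?_)
      exact hh_congr k hfin hC d hd hex _ _ (by omega) _ _ (by omega)
    rw [← hsum]
    calc hh k (kernel (d j)) (m + 1) ≤ hh k (kernel (d (j + 1))) m + hh k (C j) (m + 1) := h
      _ ≤ _ := Nat.add_le_add_right h' _

omit [IsLocallyNoetherian X] hfin hC hex in
theorem sum_Icc_one_eq_range (n : ℕ) (F : ℕ → ℤ) :
    (Finset.Icc 1 n).sum F = ∑ l ∈ Finset.range n, F (l + 1) := by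
  induction n with
  | zero => simp
  | succ n ih =>
    rw [Finset.sum_Icc_succ_top (by omega), ih, Finset.sum_range_succ]

theorem main_bound [Mono (d 0)] (i : ℕ) :
    |(hh k (C 0) i : ℤ) - (hh k (C 1) i : ℤ)| ≤
      (Finset.Icc 1 (i + 1)).sum (fun j => ((hh k (C (j + 1)) (i + 1 - j)) : ℤ)) +
        (Finset.Icc 1 i).sum (fun j => ((hh k (C (j + 1)) (i - j)) : ℤ)) := by
  have hS := shortExact_mono_lift (d 0) (d (0 + 1)) (d (0 + 1 + 1)) (hd 0) (hd (0 + 1)) (hex 0)
    (hex (0 + 1))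
  have hZ : Coh.IsCoh (kernel (d (0 + 1 + 1))) := isCoh_kernel _ (hC _) (hC _)
  have ha := hh_mid_le k hfin _ hS (hC 0) (hC (0 + 1)) hZ i
  have hc := hh_kernel_le k hfin hC d hd hex i (0 + 1 + 1)
  -- first sum
  have hs1 : (Finset.Icc 1 (i + 1)).sum (fun j => ((hh k (C (j + 1)) (i + 1 - j)) : ℤ)) =
      ((∑ l ∈ Finset.range (i + 1), hh k (C (0 + 1 + 1 + l)) (i - l) : ℕ) : ℤ) := by
    rw [sum_Icc_one_eq_range, Nat.cast_sum]
    refine Finset.sum_congr rfl (fun l _ => ?_)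
    congr 1
    exact hh_congr k hfin hC d hd hex _ _ (by omega) _ _ (by omega)
  rcases i with _ | i'
  · have hb := hh_left_zero_le k hfin _ hS (hC (0 + 1))
    rw [hs1]
    have h0 : (Finset.Icc 1 0).sum (fun j => ((hh k (C (j + 1)) (0 - j)) : ℤ)) = 0 := by simp
    rw [h0, abs_le]
    change hh k (C 0) 0 ≤ hh k (C 1) 0 at hb
    change hh k (C 1) 0 ≤ hh k (C 0) 0 + hh k (kernel (d (0 + 1 + 1))) 0 at ha
    constructor <;> omega
  · have hb := hh_left_succ_le k hfin _ hS (hC 0) (hC (0 + 1)) hZ i'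
    have hc' := hh_kernel_le k hfin hC d hd hex i' (0 + 1 + 1)
    have hs2 : (Finset.Icc 1 (i' + 1)).sum (fun j => ((hh k (C (j + 1)) (i' + 1 - j)) : ℤ)) =
        ((∑ l ∈ Finset.range (i' + 1), hh k (C (0 + 1 + 1 + l)) (i' - l) : ℕ) : ℤ) := by
      rw [sum_Icc_one_eq_range, Nat.cast_sum]
      refine Finset.sum_congr rfl (fun l _ => ?_)
      congr 1
      exact hh_congr k hfin hC d hd hex _ _ (by omega) _ _ (by omega)
    rw [hs1, hs2, abs_le]
    change hh k (C 0) (i' + 1) ≤ hh k (kernel (d (0 + 1 + 1))) i' + hh k (C 1) (i' + 1) at hb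
    change hh k (C 1) (i' + 1) ≤ hh k (C 0) (i' + 1) + hh k (kernel (d (0 + 1 + 1))) (i' + 1) at ha
    constructor <;> omega

end Seq

end Groth.Agent.Lib.Helper2.CohEuler
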